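import Groth.Agent.S0034
import Groth.Agent.CurveCohLib.Rank
import Groth.Agent.H23.PullPush
import Groth.Agent.QCoh.Pullback
import Groth.Agent.PnCoh.Unit
import Groth.Prelude.Def_CurvBase
import Mathlib.LinearAlgebra.Dimension.Constructions
import Mathlib.AlgebraicGeometry.Morphisms.Proper

/-! Cohomological invariants and base field extension. -/

noncomputable section

set_option linter.style.haveILetI false
set_option linter.unusedSectionVars false
set_option backward.isDefEq.respectTransparency false
set_option backward.isDefEq.respectTransparency.types false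

universe u

open CategoryTheory CategoryTheory.Limits AlgebraicGeometry TensorProduct

namespace Groth.Agent.CurveBC

/-- The pullback of the structure module is the structure module. -/
def unitIso {X Y : Scheme.{u}} (g : Y ⟶ X) :
    (Scheme.Modules.pullback g).obj (Coh.structureModule X) ≅ Coh.structureModule Y :=
  haveI : IsIso (SheafOfModules.pullbackObjUnitToUnit g.toRingCatSheafHom) := inferInstance
  asIso (SheafOfModules.pullbackObjUnitToUnit g.toRingCatSheafHom)

variable (k : Type u) [Field k] {X : Scheme.{u}} [X.Over (Spec (CommRingCat.of k))]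
  [CompactSpace X] [QuasiSeparatedSpace X]
  (K : Type u) [Field K] [Algebra k K] {X' : Scheme.{u}} [X'.Over (Spec (CommRingCat.of K))]
  (g : X' ⟶ X)
  (hpb : IsPullback g (X' ↘ Spec (CommRingCat.of K)) (X ↘ Spec (CommRingCat.of k))
      (Spec.map (CommRingCat.ofHom (algebraMap k K))))

include hpb

theorem finrank_hh (M : X.Modules) (hM : Coh.IsQCoh M) (i : ℕ) :
    Module.finrank K (Coh.HH X' ((Scheme.Modules.pullback g).obj M) i) =
      Module.finrank k (Coh.HH X M i) := by
  haveI := hM
  obtain ⟨e⟩ := S0034.result k K X X' g hpb M i
  rw [← e.finrank_eq, Module.finrank_baseChange]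

theorem finrank_hh_unit (i : ℕ) :
    Module.finrank K (Coh.HH X' (Coh.structureModule X') i) =
      Module.finrank k (Coh.HH X (Coh.structureModule X) i) :=
  (CurveCohLib.hhEquiv (k := K) (unitIso g) i).finrank_eq.symm.trans
    (finrank_hh k K g hpb _ (PnCoh.isQCoh_structureModule X) i)

theorem genus_eq : Curv2.genus K X' = Curv2.genus k X := finrank_hh_unit k K g hpb 1

theorem euler_eq (M : X.Modules) (hM : Coh.IsQCoh M) :
    Curv2.euler K X' ((Scheme.Modules.pullback g).obj M) = Curv2.euler k X M :=
  finsum_congr fun i => by rw [finrank_hh k K g hpb M hM i]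

theorem deg_eq (M : X.Modules) (hM : Coh.IsQCoh M) (n : ℕ) :
    Curv2.deg K X' ((Scheme.Modules.pullback g).obj M) n = Curv2.deg k X M n := by
  unfold Curv2.deg
  rw [euler_eq k K g hpb M hM, show Curv2.euler K X' (Coh.structureModule X') = _ from
    (CurveCohLib.euler_congr (k := K) (unitIso g)).symm.trans
      (euler_eq k K g hpb _ (PnCoh.isQCoh_structureModule X))]

end Groth.Agent.CurveBC
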