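import Groth.Agent.CurveBC.Coh
import Groth.Agent.GrpSchLib.AntiAffineBC
import Groth.Agent.GeomField.GlobalFunctions
import Groth.Agent.FibDim.BaseField
import Groth.Agent.CurveCohLib.SmoothCurve
import Groth.Agent.KFlatLib.Perfect.LocFree
import Groth.Agent.CurveFF.Facts
import Groth.Agent.S9386
import Groth.Agent.S9370

/-! Smooth proper curves and base field extension. -/

noncomputable section

set_option linter.style.haveILetI false
set_option linter.unusedSectionVars false
set_option backward.isDefEq.respectTransparency false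
set_option backward.isDefEq.respectTransparency.types false

universe u

open CategoryTheory CategoryTheory.Limits AlgebraicGeometry

namespace Groth.Agent.CurveBC

attribute [local instance] GeomField.globalAlgebra

/-- One-dimensional global functions are the constants. -/
theorem bijective_appTop (k : Type u) [Field k] (X : Scheme.{u}) [X.Over (Spec (CommRingCat.of k))]
    (h0 : Module.finrank k (Coh.HH X (Coh.structureModule X) 0) = 1) :
    Function.Bijective (X ↘ Spec (CommRingCat.of k)).appTop := by
  have h1 : Module.finrank k Γ(X, ⊤) = 1 := (GeomField.finrank_HH_zero k X).symm.trans h0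
  haveI := Module.nontrivial_of_finrank_eq_succ h1
  refine (GrpSchLib.AntiAffine.bijective_appTop_iff _).1 ⟨?_, ?_⟩
  · exact (algebraMap k Γ(X, ⊤)).injective
  · intro y
    obtain ⟨c, hc⟩ := (Algebra.mem_bot (R := k) (A := Γ(X, ⊤))).1
      (Subalgebra.bot_eq_top_of_finrank_eq_one h1 ▸ Algebra.mem_top (R := k) (x := y))
    exact ⟨c, hc⟩

theorem connectedSpace_of_h0 (k : Type u) [Field k] (X : Scheme.{u}) [X.Over (Spec (CommRingCat.of k))]
    (h0 : Module.finrank k (Coh.HH X (Coh.structureModule X) 0) = 1) : ConnectedSpace X :=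
  GrpSchLib.AntiAffine.connectedSpace_of_bijective (bijective_appTop k X h0)

theorem isIntegral_of_h0 (k : Type u) [Field k] (X : Scheme.{u}) [X.Over (Spec (CommRingCat.of k))]
    [IsProper (X ↘ Spec (CommRingCat.of k))] [Smooth (X ↘ Spec (CommRingCat.of k))]
    (h0 : Module.finrank k (Coh.HH X (Coh.structureModule X) 0) = 1) : IsIntegral X :=
  haveI := connectedSpace_of_h0 k X h0
  haveI := QuasiCompact.compactSpace_of_compactSpace (X ↘ Spec (CommRingCat.of k))
  CurveCohLib.isIntegral_of_smooth_connected (X ↘ Spec (CommRingCat.of k))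

variable (k : Type u) [Field k] {X : Scheme.{u}} [X.Over (Spec (CommRingCat.of k))]
  (K : Type u) [Field K] [Algebra k K] {X' : Scheme.{u}} [X'.Over (Spec (CommRingCat.of K))]
  (g : X' ⟶ X)
  (hpb : IsPullback g (X' ↘ Spec (CommRingCat.of K)) (X ↘ Spec (CommRingCat.of k))
      (Spec.map (CommRingCat.ofHom (algebraMap k K))))

include hpb

theorem flat_surjective : Flat g ∧ Surjective g :=
  ⟨MorphismProperty.of_isPullback hpb.flip (GrpSchLib.flat_spec_map_field (algebraMap k K)),
    MorphismProperty.of_isPullback hpb.flip (GrpSchLib.surjective_spec_map_field (algebraMap k K))⟩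

variable [IsProper (X ↘ Spec (CommRingCat.of k))]

theorem isProper : IsProper (X' ↘ Spec (CommRingCat.of K)) :=
  MorphismProperty.of_isPullback hpb inferInstance

theorem topologicalKrullDim_eq (hdim : topologicalKrullDim X = 1) : topologicalKrullDim X' = 1 := by
  haveI := isProper k K g hpb
  haveI : Subsingleton (Spec (CommRingCat.of k)) := inferInstanceAs (Subsingleton (PrimeSpectrum k))
  haveI : Subsingleton (Spec (CommRingCat.of K)) := inferInstanceAs (Subsingleton (PrimeSpectrum K))
  haveI : Nonempty (Spec (CommRingCat.of K)) := inferInstanceAs (Nonempty (PrimeSpectrum K))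
  exact (FibDim.topologicalKrullDim_baseChange hpb).trans hdim

theorem finrank_h0 (h0 : Module.finrank k (Coh.HH X (Coh.structureModule X) 0) = 1) :
    Module.finrank K (Coh.HH X' (Coh.structureModule X') 0) = 1 := by
  haveI := quasiSeparatedSpace_of_quasiSeparated (X ↘ Spec (CommRingCat.of k))
  haveI := QuasiCompact.compactSpace_of_compactSpace (X ↘ Spec (CommRingCat.of k))
  exact (finrank_hh_unit k K g hpb 0).trans h0

variable [Smooth (X ↘ Spec (CommRingCat.of k))]

theorem smooth : Smooth (X' ↘ Spec (CommRingCat.of K)) :=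
  MorphismProperty.of_isPullback hpb inferInstance

theorem isIntegral (h0 : Module.finrank k (Coh.HH X (Coh.structureModule X) 0) = 1) : IsIntegral X' :=
  haveI := isProper k K g hpb
  haveI := smooth k K g hpb
  isIntegral_of_h0 K X' (finrank_h0 k K g hpb h0)

/-- Differentials commute with extension of the base field. -/
theorem nonempty_omegaIso :
    Nonempty ((Scheme.Modules.pullback g).obj (Omega.sheaf (X ↘ Spec (CommRingCat.of k))) ≅
      Omega.sheaf (X' ↘ Spec (CommRingCat.of K))) := by
  haveI := isProper k K g hpb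
  obtain ⟨c, hc, -⟩ := S9370.result (X ↘ Spec (CommRingCat.of k)) (X' ↘ Spec (CommRingCat.of K)) g
    (Spec.map (CommRingCat.ofHom (algebraMap k K))) hpb.w.symm _ _ (OmegaUniv.isUniversal_dOmega _) _ _
    (OmegaUniv.isUniversal_dOmega _)
  haveI := S9386.result _ _ g _ hpb _ _ (OmegaUniv.isUniversal_dOmega (X ↘ Spec (CommRingCat.of k))) _ _
    (OmegaUniv.isUniversal_dOmega (X' ↘ Spec (CommRingCat.of K))) c hc
  exact ⟨asIso c⟩

omit hpb in
theorem isFinLocFree_omega (k : Type u) [Field k] (X : Scheme.{u}) [X.Over (Spec (CommRingCat.of k))]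
    [IsProper (X ↘ Spec (CommRingCat.of k))] [Smooth (X ↘ Spec (CommRingCat.of k))] :
    FlatMod.IsFinLocFree (Omega.sheaf (X ↘ Spec (CommRingCat.of k))) :=
  S5018.result (X ↘ Spec (CommRingCat.of k)) ((S1488.result _).1 inferInstance).2 _ _
    (OmegaUniv.isUniversal_dOmega _)

end Groth.Agent.CurveBC
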