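import Groth.Agent.CurveBC.Coh
import Groth.Agent.CurveCohLib.PointTwist
import Groth.Agent.KFlatLib.Scheme.FlatDescent
import Groth.Agent.KFlatLib.Perfect.Tensor
import Groth.Agent.Lib.CurveStable

/-! Global generation descends along extensions of the base field. -/

noncomputable section

set_option linter.style.haveILetI false
set_option linter.unusedSectionVars false
set_option backward.isDefEq.respectTransparency false
set_option backward.isDefEq.respectTransparency.types false

universe u

open CategoryTheory CategoryTheory.Limits AlgebraicGeometry TopologicalSpace Opposite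
open Groth.Agent.PnCoh.Finite (mapLin)

namespace Groth.Agent.CurveBC

variable (k : Type u) [Field k] {X : Scheme.{u}} [X.Over (Spec (CommRingCat.of k))]
  [CompactSpace X] [QuasiSeparatedSpace X]
  (K : Type u) [Field K] [Algebra k K] {X' : Scheme.{u}} [X'.Over (Spec (CommRingCat.of K))]
  (g : X' ⟶ X) [Flat g] [Surjective g]
  (hpb : IsPullback g (X' ↘ Spec (CommRingCat.of K)) (X ↘ Spec (CommRingCat.of k))
      (Spec.map (CommRingCat.ofHom (algebraMap k K))))

include hpb

/-- A quasi-coherent module with finitely many sections, globally generated after extending the field,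
is globally generated. -/
theorem isGloballyGenerated_of_pullback {M : X.Modules} (hM : Coh.IsQCoh M)
    (hfin : Module.Finite k (Coh.HH X M 0))
    (hfin' : Module.Finite K (Coh.HH X' ((Scheme.Modules.pullback g).obj M) 0))
    (hgg : Curv2.IsGloballyGenerated ((Scheme.Modules.pullback g).obj M)) :
    Curv2.IsGloballyGenerated M := by
  let n := Module.finrank k (Coh.HH X M 0)
  let b : Module.Basis (Fin n) k (Coh.HH X M 0) := Module.finBasis k _
  let e₀ := Sheaf.H.equiv₀ (Coh.toAb M) isTerminalTop
  let s : Fin n → (Coh.structureModule X ⟶ M) := fun i => QCoh.homOfTop (e₀ (b i))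
  let q : FlatMod.freeMod X n ⟶ M := Sigma.desc s
  suffices hz : IsZero (cokernel q) by
    haveI : Epi q := Preadditive.epi_of_isZero_cokernel q hz
    refine Euler.GG.isGloballyGenerated fun T φ h => ?_
    rw [← cancel_epi q, comp_zero]
    refine Sigma.hom_ext _ _ fun i => ?_
    rw [comp_zero, ← Category.assoc, Sigma.ι_desc]
    exact h _
  have hF : Coh.IsQCoh (FlatMod.freeMod X n) :=
    QCoh.isQCoh_of_isFinLocFree (KFlatLib.isFinLocFree_freeMod n)
  have hC := QCoh.isQCoh_cokernel hF hM q
  let π := cokernel.π q
  have hI := QCoh.isQCoh_kernel hM hC π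
  have hS : (ShortComplex.mk (kernel.ι π) π (kernel.condition π)).ShortExact :=
    { exact := ShortComplex.exact_of_f_is_kernel _ (kernelIsKernel π)
      mono_f := inferInstance
      epi_g := inferInstanceAs (Epi π) }
  haveI : (Scheme.Modules.pullback g).Additive :=
    Adjunction.left_adjoint_additive (Scheme.Modules.pullbackPushforwardAdjunction g)
  haveI := KFlatLib.preservesHomology_pullback g
  haveI := Functor.preservesFiniteLimits_of_preservesHomology (Scheme.Modules.pullback g)
  haveI := Functor.preservesFiniteColimits_of_preservesHomology (Scheme.Modules.pullback g)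
  have hS' := hS.map_of_exact (Scheme.Modules.pullback g)
  have hinj := CurveCohLib.mapLin_f_zero_injective (A := k) hS
  have hsurj : Function.Surjective (mapLin k (kernel.ι π) 0) := by
    rw [← LinearMap.range_eq_top, eq_top_iff, ← b.span_eq, Submodule.span_le]
    rintro _ ⟨i, rfl⟩
    have hsi : s i ≫ π = 0 := by
      rw [← Sigma.ι_desc s i, Category.assoc]
      exact (congrArg (Sigma.ι (fun _ : Fin n => Coh.structureModule X) i ≫ ·) (cokernel.condition q)).trans
        comp_zero
    let l := kernel.lift π (s i) hsi
    refine ⟨(Sheaf.H.equiv₀ (Coh.toAb (kernel π)) isTerminalTop).symm (l.app ⊤ (1 : Γ(X, ⊤))), ?_⟩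
    apply e₀.injective
    refine (Sheaf.H.equiv₀_naturality isTerminalTop ((QCoh.toAbFunctor X).map (kernel.ι π)) _).symm.trans ?_
    refine (congrArg ((kernel.ι π).app ⊤) (AddEquiv.apply_symm_apply _ _)).trans ?_
    refine (congrArg (fun φ : Coh.structureModule X ⟶ M => φ.app ⊤ (1 : Γ(X, ⊤)))
      (kernel.lift_ι π (s i) hsi)).trans ?_
    refine (QCoh.homOfTop_app _ _).trans ?_
    rw [one_smul]
    exact ConcreteCategory.congr_hom (M.presheaf.map_id _) (e₀ (b i))
  have hinj' := CurveCohLib.mapLin_f_zero_injective (A := K) hS'
  have hd : Module.finrank K (Coh.HH X' ((Scheme.Modules.pullback g).obj (kernel π)) 0) =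
      Module.finrank K (Coh.HH X' ((Scheme.Modules.pullback g).obj M) 0) := by
    rw [finrank_hh k K g hpb _ hI, finrank_hh k K g hpb _ hM]
    exact (LinearEquiv.ofBijective _ ⟨hinj, hsurj⟩).finrank_eq
  have hsurj' : Function.Surjective (mapLin K ((Scheme.Modules.pullback g).map (kernel.ι π)) 0) := by
    haveI : Module.Finite K (Coh.HH X' ((ShortComplex.mk (kernel.ι π) π (kernel.condition π)).map
      (Scheme.Modules.pullback g)).X₂ 0) := hfin'
    haveI : Module.Finite K (Coh.HH X' ((Scheme.Modules.pullback g).obj (kernel π)) 0) :=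
      Module.Finite.of_injective _ hinj'
    exact (LinearMap.injective_iff_surjective_of_finrank_eq_finrank hd).1 hinj'
  have h0 : (Scheme.Modules.pullback g).map π = 0 := by
    refine CurveCohLib.PointTwist.eq_zero_of_gg K hgg _ fun t => ?_
    obtain ⟨y, rfl⟩ := hsurj' t
    refine (PnCoh.Finite.map_map (Y := X'.toPresheafedSpace.carrier)
      ((QCoh.toAbFunctor X').map_comp _ _).symm 0 y).trans ?_
    rw [← Functor.map_comp, kernel.condition, Functor.map_zero, Functor.map_zero, Sheaf.H.map_apply]
    simp
  refine KFlatLib.isZero_of_isZero_pullback g _ ?_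
  haveI : Epi ((Scheme.Modules.pullback g).map π) := inferInstance
  rw [IsZero.iff_id_eq_zero, ← cancel_epi ((Scheme.Modules.pullback g).map π), h0]
  simp

end Groth.Agent.CurveBC
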