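import Groth.Agent.CurveBC.Geometry
import Groth.Agent.CurveBC.Generated
import Groth.Agent.QCoh.LocFree
import Groth.Agent.ProjUPX.Affine
import Groth.Agent.KFlatLib.Scheme.PullTensorCx
import Mathlib.FieldTheory.IsAlgClosed.AlgebraicClosure

/-! Differentials of smooth proper curves over an arbitrary field. -/

noncomputable section

set_option linter.style.haveILetI false
set_option linter.unusedSectionVars false
set_option backward.isDefEq.respectTransparency false
set_option backward.isDefEq.respectTransparency.types false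

universe u

open CategoryTheory CategoryTheory.Limits AlgebraicGeometry

namespace Groth.Agent.CurveBC

variable (k : Type u) [Field k] (X : Scheme.{u}) [X.Over (Spec (CommRingCat.of k))]

/-- The base change to the algebraic closure, over the algebraic closure. -/
@[reducible] def overBar : (Curv2.bc k X (AlgebraicClosure k)).Over (Spec (CommRingCat.of (AlgebraicClosure k))) :=
  ⟨Curv2.bcSnd k X (AlgebraicClosure k)⟩

attribute [local instance] overBar

local notation "K" => AlgebraicClosure k
local notation "X'" => Curv2.bc k X (AlgebraicClosure k)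
local notation "π" => Curv2.bcFst k X (AlgebraicClosure k)

theorem isPullback_bar : IsPullback π ((Curv2.bc k X (AlgebraicClosure k)) ↘ Spec (CommRingCat.of K))
    (X ↘ Spec (CommRingCat.of k)) (Spec.map (CommRingCat.ofHom (algebraMap k K))) :=
  IsPullback.of_hasPullback _ _

variable [IsProper (X ↘ Spec (CommRingCat.of k))] [Smooth (X ↘ Spec (CommRingCat.of k))]

/-- Geometrically connected smooth proper schemes have only constant global functions. -/
theorem finrank_h0_of_geometricallyConnected [GeometricallyConnected (X ↘ Spec (CommRingCat.of k))] :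
    Module.finrank k (Coh.HH X (Coh.structureModule X) 0) = 1 := by
  haveI := quasiSeparatedSpace_of_quasiSeparated (X ↘ Spec (CommRingCat.of k))
  haveI := QuasiCompact.compactSpace_of_compactSpace (X ↘ Spec (CommRingCat.of k))
  haveI := isProper k K π (isPullback_bar k X)
  haveI := smooth k K π (isPullback_bar k X)
  haveI : Subsingleton (Spec (CommRingCat.of k)) := inferInstanceAs (Subsingleton (PrimeSpectrum k))
  haveI : ConnectedSpace ↥(X') := GeometricallyConnected.geometrically_connectedSpace
    (f := X ↘ Spec (CommRingCat.of k)) _ _ _ (isPullback_bar k X)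
  exact (finrank_hh_unit k K π (isPullback_bar k X) 0).symm.trans (CurveCohLib.finrank_h0_eq_one K _)

variable (hdim : topologicalKrullDim X = 1)
  (h0 : Module.finrank k (Coh.HH X (Coh.structureModule X) 0) = 1)

include hdim h0

theorem bar_facts : IsProper ((X') ↘ Spec (CommRingCat.of K)) ∧ Smooth ((X') ↘ Spec (CommRingCat.of K)) ∧
    IsIntegral (X') ∧ topologicalKrullDim ↥(X') = 1 ∧ Flat π ∧ Surjective π :=
  ⟨isProper k K π (isPullback_bar k X), smooth k K π (isPullback_bar k X),
    isIntegral k K π (isPullback_bar k X) h0, topologicalKrullDim_eq k K π (isPullback_bar k X) hdim,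
    flat_surjective k K π (isPullback_bar k X)⟩

/-- The invariants of the differentials. -/
theorem canonical_invariants :
    Module.finrank k (Coh.HH X (Omega.sheaf (X ↘ Spec (CommRingCat.of k))) 0) = Curv2.genus k X ∧
      Curv2.deg k X (Omega.sheaf (X ↘ Spec (CommRingCat.of k))) 1 = 2 * (Curv2.genus k X : ℤ) - 2 := by
  obtain ⟨_, _, _, hd, _, _⟩ := bar_facts k X hdim h0
  haveI := quasiSeparatedSpace_of_quasiSeparated (X ↘ Spec (CommRingCat.of k))
  haveI := QuasiCompact.compactSpace_of_compactSpace (X ↘ Spec (CommRingCat.of k))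
  have hpb := isPullback_bar k X
  have hq := QCoh.isQCoh_of_isFinLocFree (isFinLocFree_omega k X)
  obtain ⟨e⟩ := nonempty_omegaIso k K π hpb
  have hc := CurveFF.canonical_invariants K (X') hd
  have h1 := (CurveCohLib.hhEquiv (k := K) e 0).finrank_eq
  have h2 := CurveRR.deg_congr K e 1
  rw [finrank_hh k K π hpb _ hq] at h1
  rw [deg_eq k K π hpb _ hq] at h2
  rw [h1, h2, ← genus_eq k K π hpb]
  exact hc

/-- The differentials form an invertible module. -/
theorem isInvertible_omega : PicF.IsInvertible (Omega.sheaf (X ↘ Spec (CommRingCat.of k))) := by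
  obtain ⟨_, _, _, hd, _, _⟩ := bar_facts k X hdim h0
  haveI := isIntegral_of_h0 k X h0
  have hpb := isPullback_bar k X
  obtain ⟨e⟩ := nonempty_omegaIso k K π hpb
  have hrk := CurveBundle.isFinLocFreeOfRank_rk (isFinLocFree_omega k X)
  have h' : FlatMod.IsFinLocFreeOfRank (CurveBundle.rk (Omega.sheaf (X ↘ Spec (CommRingCat.of k))))
      ((Scheme.Modules.pullback π).obj (Omega.sheaf (X ↘ Spec (CommRingCat.of k)))) := fun x => by
    obtain ⟨U, hx, ⟨a⟩⟩ := hrk ((π).base x)
    exact ⟨π ⁻¹ᵁ U, hx, ⟨((H23.PullPush.pullRestrictIso π U).app _).symm ≪≫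
      (Scheme.Modules.pullback (π ∣_ U)).mapIso a ≪≫ KFlatLib.pullFreeIso _ _⟩⟩
  have h1 := CurveBundle.rk_eq (InvEnd.isFinLocFreeOfRank_one
    (H23.PicMul.isInvertible_of_iso e.symm (CurveFF.isInvertible_Ωm K (X') hd)))
  have h2 : CurveBundle.rk (Omega.sheaf (X ↘ Spec (CommRingCat.of k))) = 1 :=
    (CurveBundle.rk_eq h').symm.trans h1
  exact CurveDuality.isInvertible_of_rank_one (h2 ▸ hrk)

/-- The differentials are globally generated in positive genus. -/
theorem isGloballyGenerated_omega (hg : 1 ≤ Curv2.genus k X) :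
    Curv2.IsGloballyGenerated (Omega.sheaf (X ↘ Spec (CommRingCat.of k))) := by
  obtain ⟨_, _, _, hd, _, _⟩ := bar_facts k X hdim h0
  haveI := quasiSeparatedSpace_of_quasiSeparated (X ↘ Spec (CommRingCat.of k))
  haveI := QuasiCompact.compactSpace_of_compactSpace (X ↘ Spec (CommRingCat.of k))
  haveI := CurveCohLib.isNoetherian_of_proper (k := k) (X := X)
  haveI := CurveCohLib.isNoetherian_of_proper (k := K) (X := X')
  have hpb := isPullback_bar k X
  obtain ⟨e⟩ := nonempty_omegaIso k K π hpb
  refine isGloballyGenerated_of_pullback k K π hpb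
    (QCoh.isQCoh_of_isFinLocFree (isFinLocFree_omega k X))
    (CurveCohLib.finite_HH (k := k) (CurveDeg.isCoh_of_isFinLocFree (isFinLocFree_omega k X)) 0)
    (CurveCohLib.finite_HH (k := K) (CurveDeg.isCoh_of_isFinLocFree
      (KFlatLib.isFinLocFree_pullback π (isFinLocFree_omega k X))) 0) ?_
  exact AmpleX.isGloballyGenerated_of_iso e.symm
    (CurveFF.isGloballyGenerated_Ωm K hd (by rwa [genus_eq k K π hpb]))

/-- An invertible module with the invariants of the differentials is isomorphic to them. -/
theorem nonempty_iso_omega {L : X.Modules} (hL : PicF.IsInvertible L)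
    (hdeg : Curv2.deg k X L 1 = 2 * (Curv2.genus k X : ℤ) - 2)
    (hh0 : Curv2.genus k X ≤ Module.finrank k (Coh.HH X L 0)) :
    Nonempty (L ≅ Omega.sheaf (X ↘ Spec (CommRingCat.of k))) := by
  obtain ⟨_, _, _, hd, _, _⟩ := bar_facts k X hdim h0
  haveI := isIntegral_of_h0 k X h0
  haveI := quasiSeparatedSpace_of_quasiSeparated (X ↘ Spec (CommRingCat.of k))
  haveI := QuasiCompact.compactSpace_of_compactSpace (X ↘ Spec (CommRingCat.of k))
  haveI := CurveCohLib.isNoetherian_of_proper (k := k) (X := X)
  have hpb := isPullback_bar k X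
  have hΩ := isInvertible_omega k X hdim h0
  obtain ⟨e⟩ := nonempty_omegaIso k K π hpb
  obtain ⟨D, hD, ⟨d⟩⟩ := H23.PicInv.exists_inverse hL
  let P := Scheme.Modules.pullback π
  have d' : (DCoh.tensorBi.obj (P.obj L)).obj (P.obj D) ≅ Coh.structureModule (X') :=
    (((KFlatLib.pullTensorBiIso π).app L).app D).symm ≪≫ P.mapIso d ≪≫ unitIso π
  have hqL := ProjUPX.isQCoh_of_isInvertible hL
  have hM : PicF.IsInvertible ((DCoh.tensorBi.obj D).obj (Omega.sheaf (X ↘ Spec (CommRingCat.of k)))) :=
    InvX.isInvertible_tensorMod hD hΩ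
  have hqM := ProjUPX.isQCoh_of_isInvertible hM
  have h1 := CurveFF.finrank_h1_eq K hd (PicClLib.isInvertible_pullback π hL) d'
  have h2 := CurveCohLib.Clifford.deg_eq K hd (PicClLib.isInvertible_pullback π hL)
  rw [deg_eq k K π hpb L hqL, finrank_hh k K π hpb L hqL, genus_eq k K π hpb] at h2
  have e2 : CohB1.tensorMod (CurveFF.Ωm K (X')) (P.obj D) ≅
      P.obj ((DCoh.tensorBi.obj D).obj (Omega.sheaf (X ↘ Spec (CommRingCat.of k)))) :=
    CurveTensor.commIso _ _ ≪≫ (DCoh.tensorBi.obj _).mapIso e.symm ≪≫
      (((KFlatLib.pullTensorBiIso π).app D).app _).symm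
  have h3 := (CurveCohLib.hhEquiv (k := K) e2 0).finrank_eq
  rw [finrank_hh k K π hpb _ hqM] at h3
  have h4 : 0 < Module.finrank k
      (Coh.HH X ((DCoh.tensorBi.obj D).obj (Omega.sheaf (X ↘ Spec (CommRingCat.of k)))) 0) := by
    omega
  haveI := Module.nontrivial_of_finrank_pos h4
  obtain ⟨t, ht⟩ := exists_ne (0 : Coh.HH X ((DCoh.tensorBi.obj D).obj (Omega.sheaf (X ↘ Spec (CommRingCat.of k)))) 0)
  haveI := (CurveDeg.deg_le_and_isIso k hdim.le hL hΩ (CurveDuality.homOfTwist d _ t)
    (CurveDuality.homOfTwist_ne_zero d ht)).2 (hdeg.trans (canonical_invariants k X hdim h0).2.symm)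
  exact ⟨asIso (CurveDuality.homOfTwist d _ t)⟩

end Groth.Agent.CurveBC
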