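import Groth.Agent.CurveBC.Generated
import Groth.Agent.CurveBC.Geometry
import Groth.Agent.Lib.GenLocusGG
import Groth.Agent.GeomField.GlobalFunctions
import Groth.Agent.AModX.Res
import Groth.Agent.H23.PicMul
import Mathlib.AlgebraicGeometry.Morphisms.Flat
import Mathlib.RingTheory.Finiteness.Descent

/-!
# Invertible modules trivial after extending the base field

A section whose generating locus becomes clopen after a faithfully flat base change has a clopen
generating locus; finitely many of these glue to a frame.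
-/

noncomputable section

set_option linter.style.haveILetI false
set_option linter.unusedSectionVars false
set_option backward.isDefEq.respectTransparency false
set_option backward.isDefEq.respectTransparency.types false

universe u

open CategoryTheory CategoryTheory.Limits AlgebraicGeometry TopologicalSpace Opposite
open Groth.Agent.H23.TrivBasic

namespace Groth.Agent.CurveBC.PicInj

open Groth.Agent

variable {X : Scheme.{u}} {L : X.Modules}

/-- Basic opens of global functions are clopen when those functions form an Artinian ring. -/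
theorem isClopen_basicOpen [IsArtinianRing Γ(X, ⊤)] (f : Γ(X, ⊤)) : IsClopen (X.basicOpen f : Set X) := by
  obtain ⟨n, y, hy⟩ := IsArtinian.exists_pow_succ_smul_dvd f (1 : Γ(X, ⊤))
  simp only [smul_eq_mul, mul_one] at hy
  have h0 : f ^ n * (1 - f * y) = 0 := by
    rw [mul_sub, mul_one, ← mul_assoc, ← pow_succ, hy, sub_self]
  refine ⟨?_, (X.basicOpen f).isOpen⟩
  rw [← isOpen_compl_iff]
  have : (X.basicOpen f : Set X)ᶜ = X.basicOpen (1 - f * y) := by
    ext x
    simp only [Set.mem_compl_iff, SetLike.mem_coe, Scheme.mem_basicOpen_top]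
    refine ⟨fun h => ?_, fun h h' => ?_⟩
    · rw [map_sub, map_one, map_mul]
      exact (IsLocalRing.isUnit_or_isUnit_one_sub_self _).resolve_left
        fun h'' => h (isUnit_of_mul_isUnit_left h'')
    · have := congrArg (X.presheaf.germ ⊤ x trivial) h0
      rw [map_mul, map_pow, map_zero] at this
      exact ((h'.pow n).mul h).ne_zero this
  rw [this]
  exact (X.basicOpen _).isOpen

theorem isClopen_locus_of_triv [IsArtinianRing Γ(X, ⊤)] (h : Triv L) (s : Γ(L, ⊤)) :
    IsClopen (locus s : Set X) := by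
  obtain ⟨e, he⟩ := h.exists_frame
  obtain ⟨g, hg⟩ := he.exists_coord le_rfl (AModX.res L (le_top : (⊤ : X.Opens) ≤ ⊤) s)
  rw [AModX.res_self e] at hg
  have := locus_eq_basicOpen he hg
  rw [inf_top_eq] at this
  rw [this]
  exact isClopen_basicOpen g

theorem isClopen_locus_of_pullback {Y : Scheme.{u}} (g : Y ⟶ X) [Flat g] [Surjective g] [QuasiCompact g]
    [IsArtinianRing Γ(Y, ⊤)] (hL : PicF.IsInvertible L)
    (h : Triv ((Scheme.Modules.pullback g).obj L)) (s : Γ(L, ⊤)) : IsClopen (locus s : Set X) := by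
  have hq := Flat.isQuotientMap_of_surjective g
  have := isClopen_locus_of_triv h (InvX.pullElt g (U := ⊤) s)
  rw [locus_pullElt hL g s] at this
  exact hq.isClopen_preimage.1 this

/-- Sections with clopen loci combine. -/
theorem exists_locus_sup {s t : Γ(L, ⊤)} (hs : IsClopen (locus s : Set X)) :
    ∃ r : Γ(L, ⊤), locus s ⊔ locus t ≤ locus r := by
  let C : X.Opens := ⟨(locus s : Set X)ᶜ, hs.1.isOpen_compl⟩
  let W : ULift.{u} Bool → X.Opens := fun i => bif i.down then locus s else C
  let sf : ∀ i, Γ(L, W i) := fun i => match i with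
    | ⟨true⟩ => AModX.res L le_top s
    | ⟨false⟩ => AModX.res L le_top t
  obtain ⟨r, hr, -⟩ := AModX.existsUnique_glue (M := L) (V := ⊤) W (fun _ => le_top) (fun p _ => by
      by_cases hp : p ∈ locus s
      · exact ⟨⟨true⟩, hp⟩
      · exact ⟨⟨false⟩, hp⟩) sf (fun i j => by
      rcases i with ⟨i⟩
      rcases j with ⟨j⟩
      have hsub : ∀ (Z : X.Opens), (Z : Set X) = ∅ → ∀ a b : Γ(L, Z), a = b := fun Z hZ a b =>
        AModX.eq_of_locally a b fun p hp => absurd (show p ∈ (Z : Set X) from hp) (by rw [hZ]; exact fun h => h)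
      cases i <;> cases j
      · rfl
      · exact hsub _ (Set.compl_inter_self _) _ _
      · exact hsub _ (Set.inter_compl_self _) _ _
      · rfl)
  have h1 : locus s ≤ locus r := le_locus (U := W ⟨true⟩) (by
    rw [hr ⟨true⟩]; exact isFrame_res_of_le_locus le_rfl)
  refine ⟨r, sup_le h1 fun x hx => ?_⟩
  by_cases hxs : x ∈ locus s
  · exact h1 hxs
  · refine le_locus (U := W ⟨false⟩ ⊓ locus t) ?_ ⟨hxs, hx⟩
    rw [← AModX.res_res (M := L) (le_top : W ⟨false⟩ ≤ ⊤) inf_le_left, hr ⟨false⟩]
    show InvX.IsFrame (AModX.res L inf_le_left (AModX.res L le_top t))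
    rw [AModX.res_res]
    exact isFrame_res_of_le_locus inf_le_right

theorem triv_of_clopen [CompactSpace X] (hcl : ∀ s : Γ(L, ⊤), IsClopen (locus s : Set X))
    (hcov : ∀ x : X, ∃ s : Γ(L, ⊤), x ∈ locus s) : Triv L := by
  classical
  choose s hs using hcov
  obtain ⟨T, hT⟩ := isCompact_univ.elim_finite_subcover (fun x => (locus (s x) : Set X))
    (fun x => (locus (s x)).2) (fun x _ => Set.mem_iUnion.2 ⟨x, hs x⟩)
  have key : ∀ T : Finset X, ∃ r : Γ(L, ⊤), ∀ x ∈ T, locus (s x) ≤ locus r := fun T => by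
    induction T using Finset.induction with
    | empty => exact ⟨0, fun x hx => absurd hx (Finset.notMem_empty x)⟩
    | insert a T _ ih =>
      obtain ⟨r, hr⟩ := ih
      obtain ⟨r', hr'⟩ := exists_locus_sup (s := r) (t := s a) (hcl r)
      refine ⟨r', fun x hx => ?_⟩
      rcases Finset.mem_insert.1 hx with rfl | hx
      · exact le_sup_right.trans hr'
      · exact (hr x hx).trans (le_sup_left.trans hr')
  obtain ⟨r, hr⟩ := key T
  refine triv_of_frame (e := r) (locus_eq_top_iff.1 (top_le_iff.1 fun x _ => ?_))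
  obtain ⟨y, hy, hxy⟩ := Set.mem_iUnion₂.1 (hT (Set.mem_univ x))
  exact hr y hy hxy

theorem isGloballyGenerated_structureModule :
    Curv2.IsGloballyGenerated (Coh.structureModule X) := by
  refine ⟨PUnit.{u + 1}, Sigma.desc fun _ => 𝟙 (SheafOfModules.unit X.ringCatSheaf), ?_⟩
  exact @IsSplitEpi.epi _ _ _ _ _ ⟨⟨⟨Sigma.ι (fun _ : PUnit.{u + 1} => SheafOfModules.unit X.ringCatSheaf) PUnit.unit,
    Sigma.ι_desc _ _⟩⟩⟩

attribute [local instance] GeomField.globalAlgebra in
theorem isArtinianRing_global (k : Type u) [Field k] (Y : Scheme.{u}) [Y.Over (Spec (CommRingCat.of k))]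
    (h : Module.Finite k (Coh.HH Y (Coh.structureModule Y) 0)) : IsArtinianRing Γ(Y, ⊤) := by
  let e : Coh.HH Y (Coh.structureModule Y) 0 ≃+ Γ(Y, ⊤) :=
    Sheaf.H.equiv₀ (Coh.toAb (Coh.structureModule Y)) isTerminalTop
  have he : ∀ (r : Coh.Γtop Y) (x : Coh.HH Y (Coh.structureModule Y) 0),
      e (r • x) = (show Γ(Y, ⊤) from r) * e x := by
    intro r x
    have h := (Sheaf.H.equiv₀_naturality isTerminalTop (Coh.smulAb (Coh.structureModule Y) r) x).symm
    refine (show e (r • x) = _ from h).trans ?_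
    show (show Γ(Y, ⊤) from Coh.resTop Y (Opposite.op ⊤) r) * e x = _
    congr 1
    show (Y.presheaf.map (homOfLE le_top).op).hom r = r
    rw [show (homOfLE le_top).op = 𝟙 (Opposite.op (⊤ : Y.Opens)) from rfl, Y.presheaf.map_id]
    rfl
  let eL : Coh.HH Y (Coh.structureModule Y) 0 ≃ₗ[k] Γ(Y, ⊤) :=
    { e with map_smul' := fun c x => he _ x }
  haveI := h
  haveI : Module.Finite k Γ(Y, ⊤) := Module.Finite.equiv eL
  exact IsArtinianRing.of_finite k _

variable (k : Type u) [Field k] [X.Over (Spec (CommRingCat.of k))] [CompactSpace X] [QuasiSeparatedSpace X]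
  (K : Type u) [Field K] [Algebra k K] {X' : Scheme.{u}} [X'.Over (Spec (CommRingCat.of K))]
  (g : X' ⟶ X)
  (hpb : IsPullback g (X' ↘ Spec (CommRingCat.of K)) (X ↘ Spec (CommRingCat.of k))
      (Spec.map (CommRingCat.ofHom (algebraMap k K))))

include hpb in
theorem triv_of_pullback (hfin : Module.Finite k (Coh.HH X (Coh.structureModule X) 0))
    (hL : PicF.IsInvertible L) (h : Triv ((Scheme.Modules.pullback g).obj L)) : Triv L := by
  obtain ⟨hf, hs⟩ := flat_surjective k K g hpb
  haveI : QuasiCompact g := MorphismProperty.of_isPullback hpb.flip inferInstance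
  haveI : Coh.IsQCoh (Coh.structureModule X) := PnCoh.isQCoh_structureModule X
  haveI : Coh.IsQCoh L := QCoh.isQCoh_of_isFinLocFree (H23.PullPush.isFinLocFree_of_isInvertible hL)
  obtain ⟨eO⟩ := S0034.result k K X X' g hpb (Coh.structureModule X) 0
  obtain ⟨eL⟩ := S0034.result k K X X' g hpb L 0
  haveI := hfin
  haveI hO' : Module.Finite K (Coh.HH X' (Coh.structureModule X') 0) :=
    Module.Finite.equiv (eO ≪≫ₗ CurveCohLib.hhEquiv (k := K) (unitIso g) 0)
  obtain ⟨θ⟩ := h
  haveI hL' : Module.Finite K (Coh.HH X' ((Scheme.Modules.pullback g).obj L) 0) :=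
    Module.Finite.equiv (CurveCohLib.hhEquiv (k := K) θ 0).symm
  haveI : Module.Finite K (TensorProduct k K (Coh.HH X L 0)) := Module.Finite.equiv eL.symm
  haveI hfinL : Module.Finite k (Coh.HH X L 0) :=
    Module.Finite.of_finite_tensorProduct_of_faithfullyFlat K
  have hgg := isGloballyGenerated_of_pullback k K g hpb ‹Coh.IsQCoh L› hfinL hL'
    (AmpleX.isGloballyGenerated_of_iso θ.symm isGloballyGenerated_structureModule)
  haveI := isArtinianRing_global K X' hO'
  exact triv_of_clopen (isClopen_locus_of_pullback g hL ⟨θ⟩) (GenLocusGG.exists_mem_locus hL hgg)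

end Groth.Agent.CurveBC.PicInj
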