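import Groth.Agent.CurveBC.Main
import Groth.Agent.S9716
import Groth.Agent.S9776
import Groth.Agent.S0927
import Groth.Agent.H23.CoverPush
import Groth.Agent.PnCoh.PushNat

/-! Finite covers of curves: degree of pullbacks and the étale Hurwitz formula. -/

noncomputable section

set_option linter.style.haveILetI false
set_option linter.unusedSectionVars false
set_option backward.isDefEq.respectTransparency false
set_option backward.isDefEq.respectTransparency.types false

universe u

open CategoryTheory CategoryTheory.Limits AlgebraicGeometry TopologicalSpace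

namespace Groth.Agent.CurveBC

variable (k : Type u) [Field k] {X Y : Scheme.{u}} [X.Over (Spec (CommRingCat.of k))]
  [Y.Over (Spec (CommRingCat.of k))]

/-- An algebra free of rank one is the base ring. -/
theorem bijective_of_rank_one {A B : Type u} [CommRing A] [CommRing B] [Algebra A B]
    (e : B ≃ₗ[A] (ULift.{u} (Fin 1) →₀ A)) : Function.Bijective (algebraMap A B) := by
  let e' : B ≃ₗ[A] A := e.trans (Finsupp.LinearEquiv.finsuppUnique A A (ULift.{u} (Fin 1)))
  let b : B := e'.symm 1
  have hb : ∀ x : B, x = e' x • b := fun x => by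
    apply e'.injective
    rw [map_smul, e'.apply_symm_apply, smul_eq_mul, mul_one]
  have h1 : algebraMap A B (e' 1) * b = 1 := by rw [← Algebra.smul_def]; exact (hb 1).symm
  have hbA : b = algebraMap A B (e' (b * b) * 1) := by
    have h2 : b * b = algebraMap A B (e' (b * b)) * b := by rw [← Algebra.smul_def]; exact hb _
    calc b = (b * b) * algebraMap A B (e' 1) := by
          rw [mul_assoc, mul_comm b (algebraMap A B (e' 1)), h1, mul_one]
      _ = (algebraMap A B (e' (b * b)) * b) * algebraMap A B (e' 1) := congrArg (· * _) h2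
      _ = _ := by rw [mul_assoc, mul_comm b (algebraMap A B (e' 1)), h1, mul_one, mul_one]
  refine ⟨fun r r' h => ?_, fun x => ⟨e' x * (e' (b * b) * 1), ?_⟩⟩
  · have h' := congrArg (fun z => e' (z * b)) h
    simp only [← Algebra.smul_def, map_smul, b, e'.apply_symm_apply, smul_eq_mul, mul_one] at h'
    exact h'
  · rw [map_mul, ← hbA, ← Algebra.smul_def]
    exact (hb x).symm

variable (f : X ⟶ Y) [IsFinite f]

/-- A finite map whose direct image of functions is a line bundle is an isomorphism. -/
theorem isIso_of_rank_one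
    (h : FlatMod.IsFinLocFreeOfRank 1 ((Scheme.Modules.pushforward f).obj (Coh.structureModule X))) : IsIso f := by
  have hc := H23.CoverPush.crit_of_isFinLocFreeOfRank_push f h
  choose U hU hy l using hc
  refine IsZariskiLocalAtTarget.of_iSup_eq_top (P := MorphismProperty.isomorphisms Scheme.{u}) U
    (top_le_iff.1 fun y _ => Opens.mem_iSup.2 ⟨y, hy y⟩) fun y => ?_
  haveI : IsAffine (U y : Scheme) := hU y
  haveI : IsAffine (f ⁻¹ᵁ U y : Scheme) := (hU y).preimage f
  have hb : Function.Bijective (f.app (U y)) := by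
    letI := H23.CoverPush.alg f (U y)
    obtain ⟨e⟩ := l y
    exact bijective_of_rank_one e
  show IsIso (f ∣_ U y)
  have : IsIso (f ∣_ U y).appTop := by
    rw [ConcreteCategory.isIso_iff_bijective]
    haveI : IsIso (f.app (U y)) := (ConcreteCategory.isIso_iff_bijective _).2 hb
    rw [morphismRestrict_appTop]
    haveI : IsIso (f.app ((U y).ι ''ᵁ ⊤)) := by rw [Scheme.Opens.ι_image_top]; infer_instance
    exact ConcreteCategory.bijective_of_isIso _
  exact (HasAffineProperty.iff_of_isAffine (P := MorphismProperty.isomorphisms Scheme.{u})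
    (f := f ∣_ U y)).2 ⟨inferInstance, this⟩

variable [IsIntegral X] [IsIntegral Y] [IsProper (X ↘ Spec (CommRingCat.of k))]
  [IsProper (Y ↘ Spec (CommRingCat.of k))] [Flat f] [LocallyOfFinitePresentation f]

/-- The degree of a finite flat cover. -/
abbrev coverDeg : ℕ := CurveBundle.rk ((Scheme.Modules.pushforward f).obj (Coh.structureModule X))

theorem isFinLocFreeOfRank_push : FlatMod.IsFinLocFreeOfRank (coverDeg f)
    ((Scheme.Modules.pushforward f).obj (Coh.structureModule X)) :=
  CurveBundle.isFinLocFreeOfRank_rk ((S9716.result f).2 ⟨inferInstance, inferInstance, inferInstance⟩).2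

theorem coverDeg_pos : 0 < coverDeg f := by
  refine Nat.pos_of_ne_zero fun h0 => ?_
  obtain ⟨U, hU, hy, ⟨e⟩⟩ := H23.CoverPush.crit_of_isFinLocFreeOfRank_push f
    (h0 ▸ isFinLocFreeOfRank_push f) (f (genericPoint X))
  haveI : Subsingleton Γ(X, f ⁻¹ᵁ U) := e.toEquiv.subsingleton
  exact not_nontrivial _ ((X.presheaf.germ (f ⁻¹ᵁ U) (genericPoint X) hy).hom.domain_nontrivial)

include k in
/-- The degree of a pullback under a finite flat cover. -/
theorem deg_pullback (hdim : topologicalKrullDim Y = 1)
    (hf : f ≫ (Y ↘ Spec (CommRingCat.of k)) = X ↘ Spec (CommRingCat.of k))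
    {L : Y.Modules} (hL : PicF.IsInvertible L) :
    Curv2.deg k X ((Scheme.Modules.pullback f).obj L) 1 = (coverDeg f : ℤ) * Curv2.deg k Y L 1 := by
  haveI := CurveCohLib.isNoetherian_of_proper (k := k) (X := Y)
  haveI := CurveCohLib.isNoetherian_of_proper (k := k) (X := X)
  have hE := isFinLocFreeOfRank_push f
  have hO := QCoh.isQCoh_structureModule (X := X)
  have hLf := PicClLib.isInvertible_pullback f hL
  have he : ∀ M : X.Modules, Coh.IsQCoh M →
      Curv2.euler k X M = Curv2.euler k Y ((Scheme.Modules.pushforward f).obj M) := fun M hM =>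
    finsum_congr fun i => by
      obtain ⟨e⟩ := PnCoh.exists_linearEquiv_push k f hf hM i
      rw [e.finrank_eq]
  haveI : EnoughInjectives X.Modules := inferInstance
  obtain ⟨φ⟩ := S0927.result f (Coh.structureModule X) L
    (fun y => let ⟨W, hy, he⟩ := InvEnd.isFinLocFreeOfRank_one hL y; ⟨W, 1, hy, he⟩) 0
  let ψ := (Scheme.Modules.pushforward f).rightDerivedZeroIsoSelf
  let a : (DCoh.tensorBi.obj L).obj ((Scheme.Modules.pushforward f).obj (Coh.structureModule X)) ≅
      (Scheme.Modules.pushforward f).obj ((Scheme.Modules.pullback f).obj L) :=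
    (DCoh.tensorBi.obj L).mapIso (ψ.app (Coh.structureModule X)).symm ≪≫ φ ≪≫ ψ.app _ ≪≫
      (Scheme.Modules.pushforward f).mapIso (KFlatLib.tensorUnitIso ((Scheme.Modules.pullback f).obj L))
  have h1 := CurveTensor.euler_tensor k hdim (InvEnd.isFinLocFreeOfRank_one hL)
    (CurveDeg.isCoh_of_isFinLocFree (fun y => let ⟨W, hy, he⟩ := hE y; ⟨W, _, hy, he⟩))
  rw [CurveCohLib.euler_congr a, ← he _ (ProjUPX.isQCoh_of_isInvertible hLf), ← he _ hO] at h1
  unfold Curv2.deg at h1 ⊢
  push_cast at h1 ⊢
  rw [h1]
  ring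

include k in
/-- The étale Hurwitz formula. -/
theorem hurwitz_etale [Smooth (X ↘ Spec (CommRingCat.of k))] [Smooth (Y ↘ Spec (CommRingCat.of k))] [Etale f]
    (hdX : topologicalKrullDim X = 1) (hdY : topologicalKrullDim Y = 1)
    (hX0 : Module.finrank k (Coh.HH X (Coh.structureModule X) 0) = 1)
    (hY0 : Module.finrank k (Coh.HH Y (Coh.structureModule Y) 0) = 1)
    (hf : f ≫ (Y ↘ Spec (CommRingCat.of k)) = X ↘ Spec (CommRingCat.of k)) :
    2 * (Curv2.genus k X : ℤ) - 2 = (coverDeg f : ℤ) * (2 * (Curv2.genus k Y : ℤ) - 2) := by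
  rw [← (canonical_invariants k X hdX hX0).2, ← (canonical_invariants k Y hdY hY0).2,
    ← deg_pullback k f hdY hf (isInvertible_omega k Y hdY hY0)]
  obtain ⟨c, hc, -⟩ := S9370.result (Y ↘ Spec (CommRingCat.of k)) (X ↘ Spec (CommRingCat.of k)) f (𝟙 _)
    (by rw [Category.comp_id]; exact hf.symm) _ _ (OmegaUniv.isUniversal_dOmega _) _ _
    (OmegaUniv.isUniversal_dOmega _)
  haveI := S9776.result (Y ↘ Spec (CommRingCat.of k)) (X ↘ Spec (CommRingCat.of k)) f (𝟙 _)
    (by rw [Category.comp_id]; exact hf) _ _ (OmegaUniv.isUniversal_dOmega (Y ↘ Spec (CommRingCat.of k))) _ _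
    (OmegaUniv.isUniversal_dOmega (X ↘ Spec (CommRingCat.of k))) c hc
  exact (CurveRR.deg_congr k (asIso c) 1).symm

end Groth.Agent.CurveBC
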