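import Groth.Agent.CurveEmbed.Points
import Mathlib.AlgebraicGeometry.Morphisms.QuasiFinite
import Mathlib.Topology.Sober

/-! The dimension of a finite cover of a curve. -/

noncomputable section

set_option linter.style.haveILetI false
set_option linter.unusedSectionVars false

universe u

open CategoryTheory AlgebraicGeometry TopologicalSpace

namespace Groth.Agent.CurveBC

theorem eq_of_specializes_fibre {X Y : Scheme.{u}} (f : X ⟶ Y) [LocallyQuasiFinite f] {a b : X}
    (h : a ⤳ b) (e : f a = f b) : a = b := by
  have hd : _root_.IsDiscrete (f ⁻¹' {f b}) := f.isDiscrete_preimage_singleton _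
  haveI := hd.to_subtype
  have h' : (⟨a, e⟩ : (f ⁻¹' {f b} : Set X)) ⤳ ⟨b, rfl⟩ := (subtype_specializes_iff _ _).2 h
  exact congrArg Subtype.val h'.eq

theorem topologicalKrullDim_finite_cover {X Y : Scheme.{u}} (f : X ⟶ Y) [IsFinite f] [IsIntegral X]
    [IsIntegral Y] [Surjective f] (hY : topologicalKrullDim Y = 1) : topologicalKrullDim X = 1 := by
  let g : IrreducibleCloseds X → IrreducibleCloseds Y := fun Z =>
    ⟨f '' (Z : Set X), Z.isIrreducible.image _ f.continuous.continuousOn, f.isClosedMap _ Z.isClosed⟩
  have hg : StrictMono g := fun A B hAB => by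
    refine lt_of_le_of_ne (Set.image_mono (f := f) hAB.le) fun h => ?_
    obtain ⟨a, ha⟩ := QuasiSober.sober A.isIrreducible A.isClosed
    obtain ⟨b, hb⟩ := QuasiSober.sober B.isIrreducible B.isClosed
    have hab : b ⤳ a := hb.specializes (hAB.le ha.mem)
    have hfb : f b ∈ f '' (A : Set X) :=
      (congrArg (fun Z : IrreducibleCloseds Y => (Z : Set Y)) h).ge ⟨b, hb.mem, rfl⟩
    obtain ⟨c, hc, hce⟩ := hfb
    have h1 : f a ⤳ f b := hce ▸ (ha.specializes hc).map f.continuous
    have he : f a = f b := (h1.antisymm (hab.map f.continuous)).eq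
    exact hAB.ne (IrreducibleCloseds.ext (by
      have e := eq_of_specializes_fibre f hab he.symm
      rw [← ha.def, ← hb.def, e]))
  refine le_antisymm ((Order.krullDim_le_of_strictMono g hg).trans hY.le) ?_
  have hη : ¬ IsClosed ({genericPoint X} : Set X) := fun h => by
    refine CurveEmbed.genericPoint_not_closed hY ?_
    have h2 : ∀ y : Y, y = f (genericPoint X) := fun y => by
      obtain ⟨x, rfl⟩ := f.surjective y
      rw [((genericPoint_spec X).specializes (Set.mem_univ x)).mem_closed h rfl]
    rw [show ({genericPoint Y} : Set Y) = Set.univ from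
      Set.eq_univ_of_forall fun y => (h2 y).trans (h2 _).symm]
    exact isClosed_univ
  obtain ⟨x, hx⟩ : ∃ x : X, x ≠ genericPoint X := by
    by_contra! h
    refine hη ?_
    rw [show ({genericPoint X} : Set X) = Set.univ from Set.eq_univ_of_forall h]
    exact isClosed_univ
  let Z : IrreducibleCloseds X := ⟨closure {x}, isIrreducible_singleton.closure, isClosed_closure⟩
  let T : IrreducibleCloseds X := ⟨Set.univ, IrreducibleSpace.isIrreducible_univ X, isClosed_univ⟩
  have hZT : Z < T := lt_of_le_of_ne (Set.subset_univ _) fun h => hx <| by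
    have h1 : IsGenericPoint x (Set.univ : Set X) :=
      (congrArg (fun W : IrreducibleCloseds X => (W : Set X)) h)
    exact h1.eq (genericPoint_spec X)
  refine le_trans ?_ (Order.LTSeries.length_le_krullDim ((RelSeries.singleton _ Z).snoc T hZT : LTSeries (IrreducibleCloseds X)))
  simp

end Groth.Agent.CurveBC
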